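import Cfsg.Agent.Components.WeaklyClosed.Factor
import Cfsg.Agent.Components.Misc.PMinimalComp
import Cfsg.Agent.Components.Reduced.Sub

/-!
The weak closure of a large subgroup in a group with a quasisimple image.
-/

set_option linter.style.haveILetI false
set_option linter.unusedSectionVars false

namespace Cfsg.Lib.WPerfect

open Subgroup Cfsg.Lib.WClosed Cfsg.Lib.WFactor
open scoped commutatorElement

variable {G : Type*} [Group G] [Finite G] {p : ℕ} [hp : Fact p.Prime]

/-- `O^p` of the weak closure of `Q` in a subgroup containing it -/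
theorem closure_props {Q M : Subgroup G} (hQ : IsPGroup p Q) (hwc : WC p Q) (hQM : Q ≤ M) :
    M ≤ normalizer (RO p (Cfsg.weakClosure Q M) : Set G) ∧ Cfsg.weakClosure Q M ≤ RO p (Cfsg.weakClosure Q M) ⊔ Q ∧
      ⁅RO p (Cfsg.weakClosure Q M), Q⁆ = RO p (Cfsg.weakClosure Q M) := by
  set L := Cfsg.weakClosure Q M with hL
  set K := RO p L with hK
  have hLeq : L = ⨆ k : M, Q.map (MulAut.conj (k : G)).toMonoidHom := weakClosure_eq hQ hQM hwc
  have hQL : Q ≤ L := by
    rw [hLeq]
    exact le_iSup_of_le (1 : M) (by rw [OneMemClass.coe_one, map_conj_one])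
  have hconjL : ∀ h ∈ M, Q.map (MulAut.conj h).toMonoidHom ≤ L := fun h hh => by
    rw [hLeq]
    exact le_iSup_of_le ⟨h, hh⟩ le_rfl
  have hLM : L ≤ M := iSup_le fun g => g.2
  have hMnL : M ≤ normalizer (L : Set G) := by
    intro g hg
    rw [mem_normalizer_iff_map]
    refine Subgroup.eq_of_le_of_card_ge ?_ (Cfsg.Lib.Transfer.card_map_conj L g).ge
    conv_lhs => rw [hLeq, Subgroup.map_iSup]
    exact iSup_le fun k => by rw [map_map_conj]; exact hconjL _ (mul_mem hg k.2)
  have hMnK : M ≤ normalizer (K : Set G) := hMnL.trans (le_normalizer_ro L)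
  obtain ⟨T, hT⟩ := (hQ.comap_of_injective L.subtype L.subtype_injective :
    IsPGroup p (Q.subgroupOf L)).exists_le_sylow
  have hTQ : (T : Subgroup L).map L.subtype ≤ normalizer (Q : Set G) :=
    le_normalizer.trans (WClosed.normalizer_le hwc _ (T.isPGroup'.map L.subtype)
      fun q hq => ⟨⟨q, hQL hq⟩, hT (x := ⟨q, hQL hq⟩) hq, rfl⟩)
  have hLKT : L = K ⊔ (T : Subgroup L).map L.subtype := by
    have := congrArg (Subgroup.map L.subtype) (Cfsg.Lib.Transfer.pResidual_sup_sylow T)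
    rw [Subgroup.map_sup, ← MonoidHom.range_eq_map, range_subtype] at this
    exact this.symm
  have hQn : Q ≤ normalizer (K : Set G) := hQM.trans hMnK
  have hLD : L ≤ ⁅K, Q⁆ ⊔ Q := by
    conv_lhs => rw [hLeq]
    refine iSup_le fun k => ?_
    obtain ⟨l, hl, e⟩ := exists_conj_mem hQ hQL hwc k (hconjL k k.2)
    rw [e]
    have hl' : l ∈ K ⊔ (T : Subgroup L).map L.subtype := hLKT ▸ hl
    rw [← SetLike.mem_coe, Subgroup.coe_mul_of_right_le_normalizer_left _ _
      ((map_subtype_le _).trans (hLM.trans hMnK))] at hl'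
    obtain ⟨k', hk', t, ht, rfl⟩ := hl'
    rw [← map_map_conj, mem_normalizer_iff_map.1 (hTQ ht)]
    rintro _ ⟨q, hq, rfl⟩
    show k' * q * k'⁻¹ ∈ _
    rw [show k' * q * k'⁻¹ = ⁅k', q⁆ * q by group]
    exact mul_mem_sup (commutator_mem_commutator hk' hq) hq
  have hDK : ⁅K, Q⁆ ≤ K := le_normalizer_iff_commutator_le_left.mp hQn
  refine ⟨hMnK, hLD.trans (sup_le_sup_right hDK Q), le_antisymm hDK ?_⟩
  exact (ro_mono hLD).trans (ro_sup_le hQ fun q hq => normalizer_commutator (hQn hq) (le_normalizer hq))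

theorem wc_of_large {Q : Subgroup G} (hQ : IsPGroup p Q) (hQ1 : Q ≠ ⊥) (hL : Cfsg.IsLarge Q) : WC p Q := by
  intro R hR g hQR hgR
  obtain ⟨T, hT⟩ := hR.exists_le_sylow
  exact mem_normalizer_iff_map.1 (Cfsg.Lib.Large.eq_of_conj_le_sylow hQ hQ1 hL T (hQR.trans hT) g (hgR.trans hT))

section Generic

variable {Γ : Type*} [Group Γ] [Finite Γ] {X : Subgroup Γ} [hXn : X.Normal]

theorem dich (hqs : Cfsg.IsQuasisimple ↥X) {N : Subgroup Γ} (hN : N ≤ X) (hn : X ≤ normalizer (N : Set Γ)) :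
    N = X ∨ N ≤ centralizer (X : Set Γ) := by
  haveI : (N.subgroupOf X).Normal := normal_subgroupOf_of_le_normalizer hn
  rcases Cfsg.Lib.Components.qs_subnormal_eq_top_or_le_center hqs
    (Subgroup.Normal.isSubnormal (inferInstance : (N.subgroupOf X).Normal)) with h | h
  · exact Or.inl (le_antisymm hN (subgroupOf_eq_top.mp h))
  · exact Or.inr fun x hx => mem_centralizer_iff.mpr fun y hy =>
      congrArg Subtype.val (mem_center_iff.mp (h (show (⟨x, hN hx⟩ : X) ∈ N.subgroupOf X from hx)) ⟨y, hy⟩)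

theorem perfect_le_ro (hqs : Cfsg.IsQuasisimple ↥X) : X ≤ RO p X := by
  have h := Cfsg.Lib.PMinimalComp.le_pResidual_of_perfect (p := p) (G := ↥X) (K := ⊤)
    (Cfsg.Lib.Components.qs_commutator_top hqs)
  intro x hx
  exact ⟨⟨x, hx⟩, h (mem_top _), rfl⟩

theorem not_le_centralizer (hqs : Cfsg.IsQuasisimple ↥X) : ¬ X ≤ centralizer (X : Set Γ) := fun h =>
  Cfsg.Lib.Components.qs_not_isMulCommutative hqs
    ⟨⟨fun x y => Subtype.ext (mem_centralizer_iff.mp (h y.2) x x.2)⟩⟩

theorem le_centralizer_of_commutator (hqs : Cfsg.IsQuasisimple ↥X) {Y : Subgroup Γ}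
    (h : ⁅X, Y⁆ ≤ centralizer (X : Set Γ)) : Y ≤ centralizer (X : Set Γ) := by
  have h1 : ⁅⁅X, Y⁆, X⁆ = ⊥ := commutator_eq_bot_iff_le_centralizer.mpr h
  have h2 : ⁅⁅Y, X⁆, X⁆ = ⊥ := by rw [commutator_comm Y X]; exact h1
  have h3 : ⁅⁅X, X⁆, Y⁆ = ⊥ := commutator_commutator_eq_bot_of_rotate h1 h2
  have hXX : ⁅X, X⁆ = X := by
    refine le_antisymm (commutator_le_self X) ?_
    have := congrArg (Subgroup.map X.subtype) (Cfsg.Lib.Components.qs_commutator_top hqs)
    rw [Subgroup.map_commutator, ← MonoidHom.range_eq_map, range_subtype] at this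
    exact this.ge
  rw [hXX, commutator_comm] at h3
  exact commutator_eq_bot_iff_le_centralizer.mp h3

theorem no_p_centralizing (hO : Cfsg.pCore p Γ = ⊥) (hq : ∀ g : Γ, (orderOf g).Coprime p → g ∈ X)
    {Y : Subgroup Γ} (hY : IsPGroup p Y) (hYX : Y ≤ centralizer (X : Set Γ)) : Y = ⊥ := by
  set D := centralizer (X : Set Γ) with hD
  haveI : D.Normal := inferInstance
  obtain ⟨T, hT⟩ := (hY.comap_subtype (K := D)).exists_le_sylow
  have hres : Cfsg.pResidual p ↥D ≤ center ↥D := by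
    rw [Cfsg.pResidual, closure_le]
    intro d hd
    refine mem_center_iff.mpr fun e => Subtype.ext ?_
    have hdX : (d : Γ) ∈ X := hq _ (by rw [Subgroup.orderOf_coe]; exact hd)
    exact (mem_centralizer_iff.mp e.2 _ hdX).symm
  haveI : (T : Subgroup D).Normal := by
    refine normalizer_eq_top_iff.mp (eq_top_iff.mpr ?_)
    rw [← Cfsg.Lib.Transfer.pResidual_sup_sylow T]
    refine sup_le (hres.trans fun z hz => mem_normalizer_iff.mpr fun x => ?_) le_normalizer
    rw [← (mem_center_iff.mp hz x), mul_inv_cancel_right]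
  have hTc : (T : Subgroup D).Characteristic := Sylow.characteristic_of_normal T inferInstance
  haveI := hTc
  have h1 : (T : Subgroup D).map D.subtype ≤ Cfsg.pCore p Γ :=
    le_sSup ⟨inferInstance, T.isPGroup'.map _⟩
  rw [hO] at h1
  refine eq_bot_iff.mpr fun y hy => ?_
  exact h1 ⟨⟨y, hYX hy⟩, hT (x := ⟨y, hYX hy⟩) hy, rfl⟩

end Generic

/-- the perfect residual of the weak closure -/
theorem main {Q U E : Subgroup G} (hQp : IsPGroup p Q) (hQ1 : Q ≠ ⊥) (hQ : Cfsg.IsLarge Q)
    (hU : Cfsg.IsElementaryAbelian p U) (hU1 : U ≠ ⊥) (hQE : Q ≤ E) (hEU : E ≤ normalizer (U : Set G))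
    (hQn : ¬ E ≤ normalizer (Q : Set G)) [hn : ((centralizer (U : Set G)).subgroupOf E).Normal]
    (hred : Cfsg.pCore p (↥E ⧸ (centralizer (U : Set G)).subgroupOf E) = ⊥)
    (hqs : Cfsg.IsQuasisimple ↥(((Cfsg.pResidual p ↥E) ⊔ (centralizer (U : Set G)).subgroupOf E).map
      (QuotientGroup.mk' ((centralizer (U : Set G)).subgroupOf E))))
    (Er : Subgroup G) (hEr : Er = (Cfsg.pResidual p ↥(Cfsg.weakClosure Q E)).map (Cfsg.weakClosure Q E).subtype)
    [hn2 : ((centralizer (U : Set G)).subgroupOf Er).Normal] :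
    (Cfsg.pResidual p ↥E).map E.subtype ⊔ (E ⊓ centralizer (U : Set G)) = Er ⊔ (E ⊓ centralizer (U : Set G)) ∧
      ⁅Er, Er⁆ = Er ∧ (Cfsg.pResidual p ↥Er).map Er.subtype = Er ∧
      Cfsg.IsQuasisimple (↥Er ⧸ (centralizer (U : Set G)).subgroupOf Er) ∧
      Cfsg.IsQuasisimple (↥Er ⧸ Cfsg.pCore p ↥Er) ∧
      ∀ Y : Subgroup G, Y ≤ E → IsPGroup p ↥Y → ¬ Y ≤ centralizer (U : Set G) → ⁅Er, Y⁆ = Er := by
  have hwc := wc_of_large hQp hQ1 hQ
  obtain ⟨hEn, hW, hEQ⟩ := closure_props hQp hwc hQE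
  set W := Cfsg.weakClosure Q E with hWdef
  change Er = RO p W at hEr
  rw [← hEr] at hEn hW hEQ
  have hUp : IsPGroup p U := Cfsg.Lib.Reduced.isPGroup_of_elem hU
  obtain ⟨-, hcC, hCW⟩ := Cfsg.Lib.Large.weakClosure_local hQp hQ1 hQ E hQE U hUp hU1 hEU
  set C := centralizer (U : Set G) with hC
  have hWE : W ≤ E := iSup_le fun g => g.2
  have hErW : Er ≤ W := hEr ▸ ro_le W
  have hErE : Er ≤ E := hErW.trans hWE
  have hQC : ¬ Q ≤ C := fun h => hQn (hEU.trans (hQ.2 U (fun u hu => mem_centralizer_iff.mpr fun q hq =>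
    (mem_centralizer_iff.mp (h hq) u hu).symm) hU1))
  set Cs := C.subgroupOf E
  set π := QuotientGroup.mk' Cs with hπ
  have hπs : Function.Surjective π := QuotientGroup.mk'_surjective _
  set X := ((Cfsg.pResidual p ↥E) ⊔ Cs).map π with hX
  haveI hXn : X.Normal := Normal.map inferInstance π hπs
  have hq : ∀ g : ↥E ⧸ Cs, (orderOf g).Coprime p → g ∈ X := by
    intro g hg
    obtain ⟨x, rfl⟩ := hπs g
    obtain ⟨m, hm⟩ := Cfsg.Lib.Reduced.exists_coprime_pow (p := p) x
    have h1 : x ^ p ^ m ∈ Cfsg.pResidual p ↥E := Cfsg.Lib.Transfer.mem_pResidual_of_coprime (hm m le_rfl)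
    have h2 : π x ∈ zpowers (π x ^ p ^ m) := mem_zpowers_pow_iff.mpr ((hg.pow_right m).symm)
    refine zpowers_le.mpr ?_ h2
    rw [← map_pow]
    exact mem_map_of_mem π (mem_sup_left h1)
  -- the image of `Er`
  let φ : ↥Er →* ↥E ⧸ Cs := π.comp (Subgroup.inclusion hErE)
  set A := φ.range with hA
  have hAeq : A = (Er.subgroupOf E).map π := by
    rw [hA, MonoidHom.range_comp, inclusion_range]
  haveI : (Er.subgroupOf E).Normal := normal_subgroupOf_of_le_normalizer hEn
  haveI hAn : A.Normal := hAeq ▸ Normal.map inferInstance π hπs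
  have hAX : A ≤ X := by
    rw [hAeq]
    rintro _ ⟨x, hx, rfl⟩
    refine mem_map_of_mem π (mem_sup_left ?_)
    have hx' : (x : G) ∈ RO p E := (ro_mono hWE) (hEr ▸ hx)
    obtain ⟨x', hx', e⟩ := hx'
    rwa [show x = x' from Subtype.ext e.symm]
  have hQb : ¬ (Q.subgroupOf E).map π ≤ ⊥ := fun h => hQC fun q hq => by
    have := mem_bot.mp (h (mem_map_of_mem π (show (⟨q, hQE hq⟩ : E) ∈ Q.subgroupOf E from hq)))
    exact (QuotientGroup.eq_one_iff (N := Cs) (⟨q, hQE hq⟩ : E)).mp this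
  have hQbp : IsPGroup p ((Q.subgroupOf E).map π) := (hQp.comap_subtype).map π
  have hAX' : A = X := by
    refine (dich hqs hAX (le_top.trans (normalizer_eq_top A).ge)).resolve_right fun hAc => ?_
    set Qb := (Q.subgroupOf E).map π
    set Wb := (W.subgroupOf E).map π
    have hWb : Wb ≤ A ⊔ Qb := by
      rw [hAeq, ← Subgroup.map_sup, ← subgroupOf_sup hErE hQE]
      exact map_mono (subgroupOf_mono _ hW)
    have hQW : Qb ≤ Wb := map_mono (subgroupOf_mono _ (by
      rw [hWdef, weakClosure_eq hQp hQE hwc]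
      exact le_iSup_of_le (1 : E) (by rw [OneMemClass.coe_one, map_conj_one])))
    have hAW : A ≤ Wb := hAeq ▸ map_mono (subgroupOf_mono _ hErW)
    haveI : Wb.Normal := by
      refine Normal.map (normal_subgroupOf_of_le_normalizer ?_) π hπs
      intro g hg
      refine Cfsg.Lib.Large.mem_normalizer_of_le _ fun x hx => ?_
      have hle : W ≤ W.comap (MulAut.conj g).toMonoidHom := by
        conv_lhs => rw [hWdef, weakClosure_eq hQp hQE hwc]
        refine iSup_le fun k => ?_
        rintro _ ⟨q, hq, rfl⟩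
        show g * ((k : G) * q * (k : G)⁻¹) * g⁻¹ ∈ W
        rw [hWdef, weakClosure_eq hQp hQE hwc]
        exact le_iSup (fun k : E => Q.map (MulAut.conj (k : G)).toMonoidHom) ⟨g * k, mul_mem hg k.2⟩
          ⟨q, hq, by simp [mul_assoc]⟩
      exact hle hx
    rcases dich hqs (N := X ⊓ Wb) inf_le_left (le_top.trans (normalizer_eq_top _).ge) with h | h
    · have h1 : X ≤ A ⊔ Qb := (inf_eq_left.mp h).trans hWb
      have h2 : X ≤ A := ((perfect_le_ro hqs).trans (ro_mono h1)).trans
        (ro_sup_le hQbp (le_top.trans (normalizer_eq_top A).ge))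
      exact not_le_centralizer hqs (h2.trans hAc)
    · have h1 : ⁅X, Qb⁆ ≤ X ⊓ Wb :=
        le_inf (commutator_le_left X Qb) ((commutator_mono le_rfl hQW).trans (commutator_le_right X Wb))
      exact hQb (no_p_centralizing hred hq hQbp (le_centralizer_of_commutator hqs (h1.trans h))).le
  -- consequences
  set Cr := C.subgroupOf Er
  have hker : φ.ker = Cr := by
    ext x
    rw [MonoidHom.mem_ker]
    exact QuotientGroup.eq_one_iff _
  set B := Cfsg.pCore p ↥Er with hB
  haveI : B.Normal := (Cfsg.Lib.Components.pCore_normal_and_isPGroup (G := ↥Er) p).1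
  have hR : ∀ x ∈ Er, ∀ c ∈ C, ⁅x, c⁆ ∈ Cfsg.pCoreOf p W := fun x hx c hc =>
    hcC (commutator_mem_commutator (hErW hx) hc)
  set R := Cfsg.pCoreOf p W with hRdef
  have hRn : W ≤ normalizer (R : Set G) :=
    le_normalizer.trans (Cfsg.Lib.GenFittingAction.le_normalizer_map_char W _)
  have hRp : IsPGroup p R := (Cfsg.Lib.Components.isPGroup_pCore p).map _
  have hRB : R ⊓ Er ≤ B.map Er.subtype :=
    Cfsg.Lib.Large.le_pCoreOf inf_le_right (hRp.to_le inf_le_left)
      (Cfsg.Lib.Coprime.le_normalizer_inf (hErW.trans hRn) le_normalizer)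
  have hperf : ⁅Er, Er⁆ = Er := by
    refine le_antisymm (commutator_le_self Er) ?_
    set D := ⁅Er, Er⁆
    have hDEr : D ≤ Er := commutator_le_self Er
    have hXX : X ≤ Subgroup.map φ (⁅(⊤ : Subgroup ↥Er), (⊤ : Subgroup ↥Er)⁆) := by
      rw [Subgroup.map_commutator, ← MonoidHom.range_eq_map, ← hA, hAX']
      have := congrArg (Subgroup.map X.subtype) (Cfsg.Lib.Components.qs_commutator_top hqs)
      rw [Subgroup.map_commutator, ← MonoidHom.range_eq_map, range_subtype] at this
      exact this.ge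
    have hdec : ∀ x ∈ Er, ∃ d ∈ D, ∃ c ∈ C ⊓ Er, x = d * c := by
      intro x hx
      obtain ⟨d, hd, e⟩ := hXX (show φ ⟨x, hx⟩ ∈ X by rw [← hAX']; exact ⟨⟨x, hx⟩, rfl⟩)
      have h1 : d⁻¹ * ⟨x, hx⟩ ∈ φ.ker := by rw [MonoidHom.mem_ker, map_mul, map_inv, e, inv_mul_cancel]
      rw [hker] at h1
      have h1C : (d : G)⁻¹ * x ∈ C := h1
      refine ⟨d, ?_, (d : G)⁻¹ * x, mem_inf.mpr ⟨h1C, mul_mem (inv_mem d.2) hx⟩, by simp⟩
      have h2 : (d : G) ∈ Subgroup.map Er.subtype (⁅(⊤ : Subgroup ↥Er), (⊤ : Subgroup ↥Er)⁆) := mem_map_of_mem _ hd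
      rwa [Subgroup.map_commutator, ← MonoidHom.range_eq_map, range_subtype] at h2
    have hle : Er ≤ D ⊔ (R ⊓ Er) := by
      conv_lhs => rw [← hEQ]
      rw [commutator_le]
      intro x hx q hq
      obtain ⟨d, hd, c, hc, rfl⟩ := hdec x hx
      have hqn : q ∈ normalizer (D : Set G) := normalizer_commutator (hEn (hQE hq)) (hEn (hQE hq))
      rw [show ⁅d * c, q⁆ = (d * ⁅c, q⁆ * d⁻¹) * ⁅d, q⁆ by group]
      refine mul_mem (mem_sup_right ?_) (mem_sup_left ?_)
      · have hcR : ⁅c, q⁆ ∈ R ⊓ Er := by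
          refine mem_inf.mpr ⟨?_, le_normalizer_iff_commutator_le_left.mp (hQE.trans hEn)
            (commutator_mem_commutator (mem_inf.mp hc).2 hq)⟩
          have hqW : q ∈ W := by
            rw [hWdef, weakClosure_eq hQp hQE hwc]
            exact le_iSup (fun k : E => Q.map (MulAut.conj (k : G)).toMonoidHom) 1 ⟨q, hq, by simp⟩
          rw [← commutatorElement_inv]
          exact inv_mem (hcC (commutator_mem_commutator hqW (mem_inf.mp hc).1))
        exact (mem_normalizer_iff.mp (Cfsg.Lib.Coprime.le_normalizer_inf (hErW.trans hRn) le_normalizer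
          (hDEr hd)) _).mp hcR
      · exact le_normalizer_iff_commutator_le_left.mp (fun _ h => h)
          (commutator_mem_commutator hd hqn)
    calc Er = RO p W := hEr
      _ ≤ RO p (RO p W) := ro_ro W
      _ ≤ RO p (D ⊔ (R ⊓ Er)) := ro_mono (hEr ▸ hle)
      _ ≤ D := ro_sup_le (hRp.to_le inf_le_left) (inf_le_right.trans (fun g hg =>
          normalizer_commutator (le_normalizer hg) (le_normalizer hg)))
  have hro : RO p Er = Er := le_antisymm (ro_le Er) (by
    conv_lhs => rw [hEr]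
    rw [hEr]
    exact ro_ro W)
  have hqs1 : Cfsg.IsQuasisimple (↥Er ⧸ Cr) := by
    refine Cfsg.Lib.Components.qs_congr' ?_ hqs
    exact ((QuotientGroup.quotientMulEquivOfEq hker.symm).trans
      ((QuotientGroup.quotientKerEquivRange φ).trans (MulEquiv.subgroupCongr hAX'))).symm
  -- the quotient by the core
  have hTop : ⁅(⊤ : Subgroup (↥Er ⧸ B)), (⊤ : Subgroup (↥Er ⧸ B))⁆ = ⊤ := by
    have h1 : ⁅(⊤ : Subgroup ↥Er), (⊤ : Subgroup ↥Er)⁆ = ⊤ := by
      apply map_injective Er.subtype_injective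
      rw [Subgroup.map_commutator, ← MonoidHom.range_eq_map, range_subtype, hperf]
    have := congrArg (Subgroup.map (QuotientGroup.mk' B)) h1
    rwa [Subgroup.map_commutator, map_top_of_surjective _ (QuotientGroup.mk'_surjective _)] at this
  have hcen : Cr.map (QuotientGroup.mk' B) ≤ center _ := by
    rintro _ ⟨c, hc, rfl⟩
    refine mem_center_iff.mpr fun g => ?_
    obtain ⟨x, rfl⟩ := QuotientGroup.mk'_surjective B g
    refine commutatorElement_eq_one_iff_mul_comm.mp ?_
    rw [← map_commutatorElement]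
    refine (QuotientGroup.eq_one_iff _).mpr ?_
    obtain ⟨b, hb, e⟩ := hRB (mem_inf.mpr ⟨hR x x.2 c hc, (⁅x, c⁆ : ↥Er).2⟩ : ((⁅x, c⁆ : ↥Er) : G) ∈ R ⊓ Er)
    rwa [show ⁅x, c⁆ = b from Subtype.ext e.symm]
  have hfill : ∀ N : Subgroup ↥Er, N ⊔ Cr = ⊤ → N ⊔ B = ⊤ := by
    intro N h
    have h1 : N.map (QuotientGroup.mk' B) = ⊤ := by
      refine Cfsg.Lib.Components.eq_top_of_sup_center_eq_top hTop (eq_top_iff.mpr ?_)
      rw [← map_top_of_surjective _ (QuotientGroup.mk'_surjective B), ← h, Subgroup.map_sup]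
      exact sup_le_sup_left hcen _
    have := congrArg (comap (QuotientGroup.mk' B)) h1
    rwa [comap_map_eq, QuotientGroup.ker_mk', comap_top] at this
  have hnE : ¬ IsPGroup p Er := fun h => by
    have h1 : RO p Er ≤ ⊥ := ro_le_of Er ⊥ fun x hx hc => by
      obtain ⟨k, hk⟩ := h ⟨x, hx⟩
      have hxk : x ^ p ^ k = 1 := congrArg Subtype.val hk
      exact mem_bot.mpr (orderOf_eq_one_iff.mp (Nat.eq_one_of_dvd_coprimes (hc.pow_right k)
        dvd_rfl (orderOf_dvd_of_pow_eq_one hxk)))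
    rw [hro] at h1
    refine not_le_centralizer hqs (hAX' ▸ ?_)
    rintro _ ⟨x, rfl⟩
    rw [show x = 1 from Subtype.ext (mem_bot.mp (h1 x.2)), map_one]
    exact one_mem _
  have hBne : B ≠ ⊤ := fun h => hnE (by
    have := Cfsg.Lib.Components.isPGroup_pCore (G := ↥Er) p
    rw [← hB, h] at this
    exact this.of_equiv Subgroup.topEquiv)
  haveI : Nontrivial (↥Er ⧸ B) := QuotientGroup.nontrivial_iff.mpr hBne
  have hqs2 : Cfsg.IsQuasisimple (↥Er ⧸ B) := by
    refine Cfsg.Lib.Components.isQuasisimple_of_perfect_of_subnormal inferInstance hTop fun N hN hNne => ?_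
    set N₀ := N.comap (QuotientGroup.mk' B) with hN₀
    haveI : N₀.Normal := hN.comap _
    haveI : (N₀.map φ.rangeRestrict).Normal :=
      Normal.map inferInstance _ φ.rangeRestrict_surjective
    have hn' : X ≤ normalizer ((N₀.map φ : Subgroup _) : Set _) := by
      rw [← hAX', hA, MonoidHom.range_eq_map]
      exact (map_mono (normalizer_eq_top N₀).ge).trans (le_normalizer_map φ)
    rcases dich hqs (hAX' ▸ map_le_range φ N₀) hn' with h | h
    · exfalso
      apply hNne
      have h1 : N₀ ⊔ Cr = ⊤ := by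
        have := congrArg (comap φ) h
        rwa [comap_map_eq, hker, ← hAX', hA, MonoidHom.range_eq_map, comap_map_eq, top_sup_eq] at this
      have h2 := congrArg (Subgroup.map (QuotientGroup.mk' B)) (hfill N₀ h1)
      rwa [Subgroup.map_sup, map_comap_eq_self_of_surjective (QuotientGroup.mk'_surjective B),
        (Subgroup.map_eq_bot_iff _).mpr (QuotientGroup.ker_mk' B).ge, sup_bot_eq,
        map_top_of_surjective _ (QuotientGroup.mk'_surjective _)] at h2
    · have hNC : ⁅N₀, (⊤ : Subgroup ↥Er)⁆ ≤ Cr := by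
        rw [← hker, ← Subgroup.map_eq_bot_iff, Subgroup.map_commutator, commutator_eq_bot_iff_le_centralizer,
          ← MonoidHom.range_eq_map, ← hA, hAX']
        exact h
      have h1 : ⁅⁅N, (⊤ : Subgroup (↥Er ⧸ B))⁆, (⊤ : Subgroup (↥Er ⧸ B))⁆ = ⊥ := by
        have hN' : N = N₀.map (QuotientGroup.mk' B) :=
          (map_comap_eq_self_of_surjective (QuotientGroup.mk'_surjective B) N).symm
        rw [hN', ← map_top_of_surjective _ (QuotientGroup.mk'_surjective B), ← Subgroup.map_commutator,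
          commutator_eq_bot_iff_le_centralizer]
        exact (map_mono hNC).trans (hcen.trans (center_le_centralizer _))
      have h2 : ⁅⁅(⊤ : Subgroup (↥Er ⧸ B)), N⁆, (⊤ : Subgroup (↥Er ⧸ B))⁆ = ⊥ := by rw [commutator_comm ⊤ N]; exact h1
      have h3 := commutator_commutator_eq_bot_of_rotate h2 h1
      rw [hTop, commutator_comm, commutator_eq_bot_iff_le_centralizer] at h3
      intro x hx
      exact mem_center_iff.mpr fun g => mem_centralizer_iff.mp (h3 hx) g trivial
  refine ⟨?_, hperf, hro, hqs1, hqs2, fun Y hYE hY hYC => ?_⟩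
  · have h1 := congrArg (comap π) hAX'
    rw [hAeq, hX, comap_map_eq, comap_map_eq, QuotientGroup.ker_mk', sup_assoc, sup_idem] at h1
    have h2 := congrArg (Subgroup.map E.subtype) h1
    rw [Subgroup.map_sup, Subgroup.map_sup, map_subgroupOf_eq_of_le hErE, subgroupOf_map_subtype, inf_comm] at h2
    exact h2.symm
  · set D := ⁅Er, Y⁆ with hD
    have hDEr : D ≤ Er := le_normalizer_iff_commutator_le_left.mp (hYE.trans hEn)
    refine le_antisymm hDEr ?_
    have hDn : Er ≤ normalizer (D : Set G) := commutator_left_normalized Er Y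
    set D₀ := D.subgroupOf Er
    haveI : D₀.Normal := normal_subgroupOf_of_le_normalizer hDn
    have hn' : X ≤ normalizer ((D₀.map φ : Subgroup _) : Set _) := by
      rw [← hAX', hA, MonoidHom.range_eq_map]
      exact (map_mono (normalizer_eq_top D₀).ge).trans (le_normalizer_map φ)
    rcases dich hqs (hAX' ▸ map_le_range φ D₀) hn' with h | h
    · have h1 : D₀ ⊔ Cr = ⊤ := by
        have := congrArg (comap φ) h
        rwa [comap_map_eq, hker, ← hAX', hA, MonoidHom.range_eq_map, comap_map_eq, top_sup_eq] at this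
      have h2 := congrArg (Subgroup.map Er.subtype) (hfill D₀ h1)
      rw [Subgroup.map_sup, map_subgroupOf_eq_of_le hDEr, ← MonoidHom.range_eq_map, range_subtype] at h2
      calc Er = RO p Er := hro.symm
        _ ≤ RO p (D ⊔ B.map Er.subtype) := ro_mono h2.ge
        _ ≤ D := ro_sup_le ((Cfsg.Lib.Components.isPGroup_pCore p).map _) ((map_subtype_le _).trans hDn)
    · exfalso
      apply hYC
      set Yb := (Y.subgroupOf E).map π
      have h1 : ⁅X, Yb⁆ ≤ centralizer (X : Set _) := by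
        refine le_trans ?_ h
        conv_lhs => rw [← hAX', hAeq, ← Subgroup.map_commutator]
        rintro _ ⟨x, hx, rfl⟩
        have hxD : (x : G) ∈ D := by
          have := mem_map_of_mem E.subtype hx
          rwa [Subgroup.map_commutator, map_subgroupOf_eq_of_le hErE, map_subgroupOf_eq_of_le hYE] at this
        exact ⟨⟨x, hDEr hxD⟩, hxD, congrArg π (Subtype.ext rfl)⟩
      have h2 := no_p_centralizing hred hq ((hY.comap_subtype).map π) (le_centralizer_of_commutator hqs h1)
      intro y hy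
      exact (QuotientGroup.eq_one_iff (N := Cs) (⟨y, hYE hy⟩ : E)).mp (mem_bot.mp (h2 ▸ mem_map_of_mem π
        (show (⟨y, hYE hy⟩ : E) ∈ Y.subgroupOf E from hy)))

end Cfsg.Lib.WPerfect
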