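import Cfsg.Agent.Components.WeaklyClosed.Basic
import Cfsg.Agent.Components.Misc.PIrr
import Cfsg.Agent.Components.Misc.GenFittingAction
import Cfsg.Agent.Components.Misc.Large

/-!
Two normal factors of a group generated by conjugates of a weakly closed subgroup.
-/

set_option linter.style.haveILetI false
set_option linter.unusedSectionVars false

namespace Cfsg.Lib.WFactor

open Subgroup Cfsg.Lib.WClosed
open scoped commutatorElement

variable {G : Type*} [Group G] [Finite G] {p : ℕ} [hp : Fact p.Prime]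

/-- `O^p(L)` in the ambient group -/
abbrev RO (p : ℕ) (L : Subgroup G) : Subgroup G := (Cfsg.pResidual p ↥L).map L.subtype

theorem ro_le (L : Subgroup G) : RO p L ≤ L := map_subtype_le _

theorem ro_le_of (L N : Subgroup G) (h : ∀ x ∈ L, (orderOf x).Coprime p → x ∈ N) : RO p L ≤ N := by
  rw [RO, map_le_iff_le_comap, Cfsg.pResidual, closure_le]
  intro x hx
  exact h _ x.2 (by rw [Subgroup.subtype_apply, Subgroup.orderOf_coe]; exact hx)

theorem mem_ro {L : Subgroup G} {x : G} (hx : x ∈ L) (hc : (orderOf x).Coprime p) : x ∈ RO p L :=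
  ⟨⟨x, hx⟩, Cfsg.Lib.Transfer.mem_pResidual_of_coprime (by rwa [← Subgroup.orderOf_coe] ), rfl⟩

theorem ro_mono {L M : Subgroup G} (h : L ≤ M) : RO p L ≤ RO p M :=
  ro_le_of L _ fun _ hx hc => mem_ro (h hx) hc

theorem ro_ro (L : Subgroup G) : RO p L ≤ RO p (RO p L) :=
  ro_le_of L _ fun _ hx hc => mem_ro (mem_ro hx hc) hc

theorem le_normalizer_ro (L : Subgroup G) : normalizer (L : Set G) ≤ normalizer (RO p L : Set G) := by
  intro g hg
  rw [mem_normalizer_iff]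
  have key : ∀ g ∈ normalizer (L : Set G), ∀ z ∈ RO p L, g * z * g⁻¹ ∈ RO p L := by
    intro g hg z hz
    refine (ro_le_of L ((RO p L).comap (MulAut.conj g).toMonoidHom) fun x hx hc => ?_) hz
    show g * x * g⁻¹ ∈ RO p L
    refine mem_ro ((mem_normalizer_iff.mp hg x).mp hx) ?_
    rwa [show g * x * g⁻¹ = MulAut.conj g x from rfl, MulEquiv.orderOf_eq]
  intro z
  refine ⟨key g hg z, fun h => ?_⟩
  have := key g⁻¹ (inv_mem hg) _ h
  simpa [mul_assoc] using this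

theorem ro_sup_le {N Y : Subgroup G} (hY : IsPGroup p Y) (hn : Y ≤ normalizer (N : Set G)) :
    RO p (N ⊔ Y) ≤ N := by
  refine ro_le_of _ _ fun x hx hc => ?_
  set M := normalizer (N : Set G)
  haveI : (N.subgroupOf M).Normal := Subgroup.normal_in_normalizer
  have hxM : x ∈ M := (sup_le le_normalizer hn) hx
  set π := QuotientGroup.mk' (N.subgroupOf M)
  have h1 : π ⟨x, hxM⟩ ∈ (Y.subgroupOf M).map π := by
    have h2 : N ⊔ Y ≤ (((Y.subgroupOf M).map π).comap π).map M.subtype := by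
      refine sup_le (fun n hn' => ⟨⟨n, le_normalizer hn'⟩, ?_, rfl⟩) fun y hy => ⟨⟨y, hn hy⟩, ?_, rfl⟩
      · show π _ ∈ (Y.subgroupOf M).map π
        rw [show π ⟨n, le_normalizer hn'⟩ = 1 from (QuotientGroup.eq_one_iff _).mpr hn']
        exact one_mem _
      · exact mem_map_of_mem π (show (⟨y, hn hy⟩ : M) ∈ Y.subgroupOf M from hy)
    obtain ⟨x', hx', e⟩ := h2 hx
    obtain rfl : x' = ⟨x, hxM⟩ := Subtype.ext e
    exact hx'
  have hP : IsPGroup p ((Y.subgroupOf M).map π) :=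
    (hY.comap_of_injective M.subtype M.subtype_injective).map π
  obtain ⟨a, ha⟩ := IsPGroup.iff_card.mp hP
  have hd : orderOf (π ⟨x, hxM⟩) ∣ p ^ a := ha ▸ Subgroup.orderOf_dvd_natCard _ h1
  have hd' : orderOf (π ⟨x, hxM⟩) ∣ orderOf x := by
    rw [← Subgroup.orderOf_mk x hxM]
    exact orderOf_map_dvd π _
  have h3 : π ⟨x, hxM⟩ = 1 := orderOf_eq_one_iff.mp (Nat.eq_one_of_dvd_coprimes (hc.pow_right a) hd' hd)
  exact (QuotientGroup.eq_one_iff (N := N.subgroupOf M) (⟨x, hxM⟩ : M)).mp h3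

theorem commutator_left_normalized (A B : Subgroup G) : A ≤ normalizer ((⁅A, B⁆ : Subgroup G) : Set G) :=
  Cfsg.Lib.PIrr.commutator_normalized A B

/-- conjugation invariance of a commutator subgroup -/
theorem normalizer_commutator {A B : Subgroup G} {g : G} (hA : g ∈ normalizer (A : Set G))
    (hB : g ∈ normalizer (B : Set G)) : g ∈ normalizer ((⁅A, B⁆ : Subgroup G) : Set G) := by
  rw [mem_normalizer_iff_map, map_commutator, mem_normalizer_iff_map.1 hA, mem_normalizer_iff_map.1 hB]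

/-- the commutators into a central part -/
theorem commutator_factor_central {Γ : Type*} [Group Γ] (a b : Subgroup Γ) (hab : a ⊔ b = ⊤) [a.Normal]
    (he : ∀ x ∈ ⁅a, b⁆, ∀ y, x * y = y * x) : ∀ x ∈ a, ∀ g, ∀ c ∈ b, ⁅x, g⁆ * c = c * ⁅x, g⁆ := by
  have h1 : ⁅⁅a, b⁆, a⁆ = ⊥ := commutator_eq_bot_iff_le_centralizer.mpr fun x hx =>
    mem_centralizer_iff.mpr fun y _ => (he x hx y).symm
  have h2 : ⁅⁅b, a⁆, a⁆ = ⊥ := by rw [commutator_comm b a]; exact h1
  have h3 : ⁅⁅a, a⁆, b⁆ = ⊥ := commutator_commutator_eq_bot_of_rotate h1 h2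
  intro x hx g c hc
  obtain ⟨u, hu, w, hw, rfl⟩ := mem_sup_of_normal_left.mp (show g ∈ a ⊔ b by rw [hab]; trivial)
  have e1 : ⁅x, u⁆ * c = c * ⁅x, u⁆ := commutatorElement_eq_one_iff_mul_comm.mp
    (mem_bot.mp (h3 ▸ commutator_mem_commutator (commutator_mem_commutator hx hu) hc))
  have e2 : ⁅x, w⁆ ∈ ⁅a, b⁆ := commutator_mem_commutator hx hw
  have e3 : u * ⁅x, w⁆ * u⁻¹ = ⁅x, w⁆ := by rw [← he _ e2 u, mul_inv_cancel_right]
  have e4 : ⁅x, u * w⁆ = ⁅x, u⁆ * ⁅x, w⁆ := by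
    conv_rhs => rw [← e3]
    group
  rw [e4, mul_assoc, he _ e2 c, ← mul_assoc, e1, mul_assoc]

variable {Q Hc H H' : Subgroup G}

/-- `O^p` of the weak closure in one factor -/
theorem factor (hQ : IsPGroup p Q) (hwc : WC p Q) (hQHc : Q ≤ Hc) (hHc : Hc = Cfsg.weakClosure Q ⊤)
    (hn : H ≤ Hc ∧ Hc ≤ normalizer (H : Set G)) (hn' : H' ≤ Hc ∧ Hc ≤ normalizer (H' : Set G))
    (hprod : H ⊔ H' = Hc) (hcomm : ⁅H, H'⁆ ≤ normalizer (Q : Set G))
    (K : Subgroup G) (hK : K = RO p (Cfsg.weakClosure Q (H ⊔ Q))) :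
    (⁅K, Q⁆ = K ∧ ⁅K, H⁆ = K ∧ K ≤ ⁅H, H⁆ ∧ Hc ≤ normalizer (K : Set G)) ∧
      ⁅K, H'⁆ ≤ Cfsg.pCoreOf p Hc ∧ (∀ h ∈ H, Q.map (MulAut.conj h).toMonoidHom ≤ K ⊔ Q) ∧ K ≤ RO p Hc ∧ K ≤ H := by
  set M := H ⊔ Q with hM
  set L := Cfsg.weakClosure Q M with hL
  have hLeq : L = ⨆ k : M, Q.map (MulAut.conj (k : G)).toMonoidHom := weakClosure_eq hQ le_sup_right hwc
  have hQL : Q ≤ L := by
    rw [hLeq]
    exact le_iSup_of_le (1 : M) (by rw [OneMemClass.coe_one, map_conj_one])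
  have hconjL : ∀ h ∈ M, Q.map (MulAut.conj h).toMonoidHom ≤ L := fun h hh => by
    rw [hLeq]
    exact le_iSup_of_le ⟨h, hh⟩ le_rfl
  have hLM : L ≤ M := by
    rw [hLeq]
    refine iSup_le fun k => ?_
    rintro _ ⟨q, hq, rfl⟩
    exact mul_mem (mul_mem k.2 (mem_sup_right hq)) (inv_mem k.2)
  have hMc : M ≤ Hc := sup_le hn.1 hQHc
  have hMnL : M ≤ normalizer (L : Set G) := by
    intro g hg
    rw [mem_normalizer_iff_map]
    refine Subgroup.eq_of_le_of_card_ge ?_ (Cfsg.Lib.Transfer.card_map_conj L g).ge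
    conv_lhs => rw [hLeq, Subgroup.map_iSup]
    exact iSup_le fun k => by rw [map_map_conj]; exact hconjL _ (mul_mem hg k.2)
  have hMnK : M ≤ normalizer (K : Set G) := hK ▸ hMnL.trans (le_normalizer_ro L)
  have hHM : H ≤ M := le_sup_left
  have hQM : Q ≤ M := le_sup_right
  have hKL : K ≤ L := hK ▸ ro_le L
  -- Frattini
  obtain ⟨T, hT⟩ := (hQ.comap_of_injective L.subtype L.subtype_injective :
    IsPGroup p (Q.subgroupOf L)).exists_le_sylow
  have hTQ : (T : Subgroup L).map L.subtype ≤ normalizer (Q : Set G) :=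
    le_normalizer.trans (WClosed.normalizer_le hwc _ (T.isPGroup'.map L.subtype)
      fun q hq => ⟨⟨q, hQL hq⟩, hT (x := ⟨q, hQL hq⟩) hq, rfl⟩)
  have hLKT : L = K ⊔ (T : Subgroup L).map L.subtype := by
    have := congrArg (Subgroup.map L.subtype) (Cfsg.Lib.Transfer.pResidual_sup_sylow T)
    rw [Subgroup.map_sup, ← MonoidHom.range_eq_map, range_subtype] at this
    rw [hK]
    exact this.symm
  have hLnKQ : L ≤ normalizer ((K ⊔ Q : Subgroup G) : Set G) := by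
    rw [hLKT]
    refine sup_le (le_sup_left.trans le_normalizer) ?_
    exact Cfsg.Lib.Coprime.le_normalizer_sup ((map_subtype_le _).trans (hLM.trans hMnK)) hTQ
  have hconjKQ : ∀ h ∈ M, Q.map (MulAut.conj h).toMonoidHom ≤ K ⊔ Q := by
    intro h hh
    obtain ⟨l, hl, e⟩ := exists_conj_mem hQ hQL hwc h (hconjL h hh)
    rw [e]
    rintro _ ⟨q, hq, rfl⟩
    exact (mem_normalizer_iff.mp (hLnKQ hl) q).mp (mem_sup_right hq)
  have hLKQ : L ≤ K ⊔ Q := by
    conv_lhs => rw [hLeq]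
    exact iSup_le fun k => hconjKQ k k.2
  -- `K = [K, Q]`
  have hDK : ⁅K, Q⁆ ≤ K := le_normalizer_iff_commutator_le_left.mp (hQM.trans hMnK)
  have hKQn : K ⊔ Q ≤ normalizer ((⁅K, Q⁆ : Subgroup G) : Set G) := sup_le (commutator_left_normalized K Q)
    (fun q hq => normalizer_commutator (hMnK (hQM hq)) (le_normalizer hq))
  have hKeq : ⁅K, Q⁆ = K := by
    refine le_antisymm hDK ?_
    have hLD : L ≤ ⁅K, Q⁆ ⊔ Q := by
      conv_lhs => rw [hLeq]
      refine iSup_le fun k => ?_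
      obtain ⟨l, hl, e⟩ := exists_conj_mem hQ hQL hwc k (hconjL k k.2)
      rw [e]
      have hl' : l ∈ (K : Subgroup G) ⊔ (T : Subgroup L).map L.subtype := hLKT ▸ hl
      rw [← SetLike.mem_coe, Subgroup.coe_mul_of_right_le_normalizer_left _ _
        ((map_subtype_le _).trans (hLM.trans hMnK))] at hl'
      obtain ⟨k', hk', t, ht, rfl⟩ := hl'
      rw [← map_map_conj, mem_normalizer_iff_map.1 (hTQ ht)]
      rintro _ ⟨q, hq, rfl⟩
      show k' * q * k'⁻¹ ∈ _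
      rw [show k' * q * k'⁻¹ = ⁅k', q⁆ * q by group]
      exact mul_mem_sup (commutator_mem_commutator hk' hq) hq
    calc K = RO p L := hK
      _ ≤ RO p (⁅K, Q⁆ ⊔ Q) := ro_mono hLD
      _ ≤ ⁅K, Q⁆ := ro_sup_le hQ (le_sup_right.trans hKQn)
  have hKH : K ≤ H := by
    rw [hK]
    exact (ro_mono hLM).trans (ro_sup_le hQ (hQHc.trans hn.2))
  -- the core
  set R := Cfsg.pCoreOf p Hc with hR
  have hRHc : R ≤ Hc := map_subtype_le _
  have hRn : Hc ≤ normalizer (R : Set G) := Cfsg.Lib.GenFittingAction.le_normalizer_map_char Hc _ |>.trans'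
    le_normalizer
  have hRp : IsPGroup p R := (Cfsg.Lib.Components.isPGroup_pCore p).map _
  set E := ⁅H, H'⁆ with hE
  have hEH : E ≤ H := le_normalizer_iff_commutator_le_left.mp (hn'.1.trans hn.2)
  have hEHc : E ≤ Hc := hEH.trans hn.1
  have hEn : Hc ≤ normalizer (E : Set G) := fun g hg => normalizer_commutator (hn.2 hg) (hn'.2 hg)
  have hEQ : ∀ g ∈ Hc, ∀ e ∈ E, ∀ q ∈ Q, ⁅e, g * q * g⁻¹⁆ ∈ R := by
    intro g hg e he q hq
    have h1 : ⁅g⁻¹ * e * g, q⁆ ∈ R := by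
      have he' : g⁻¹ * e * g ∈ E := by
        have := (mem_normalizer_iff.mp (hEn (inv_mem hg)) e).mp he
        simpa using this
      have hEnE : E ≤ normalizer ((E ⊓ Q : Subgroup G) : Set G) :=
        Cfsg.Lib.Coprime.le_normalizer_inf le_normalizer hcomm
      have hQnE : Q ≤ normalizer (E : Set G) := hQHc.trans hEn
      have hmem : ⁅g⁻¹ * e * g, q⁆ ∈ E ⊓ Q := mem_inf.mpr
        ⟨le_normalizer_iff_commutator_le_left.mp hQnE (commutator_mem_commutator he' hq),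
          le_normalizer_iff_commutator_le_right.mp hcomm (commutator_mem_commutator he' hq)⟩
      have h2 : E ⊓ Q ≤ Cfsg.pCoreOf p E :=
        Cfsg.Lib.Large.le_pCoreOf inf_le_left (hQ.to_le inf_le_right) hEnE
      have h3 : Cfsg.pCoreOf p E ≤ R :=
        Cfsg.Lib.Large.le_pCoreOf ((map_subtype_le _).trans hEHc)
          ((Cfsg.Lib.Components.isPGroup_pCore p).map _)
          (hEn.trans (Cfsg.Lib.GenFittingAction.le_normalizer_map_char E _))
      exact h3 (h2 hmem)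
    have h4 := (mem_normalizer_iff.mp (hRn hg) _).mp h1
    convert h4 using 1
    group
  haveI hRN : (R.subgroupOf Hc).Normal := normal_subgroupOf_of_le_normalizer hRn
  set π := QuotientGroup.mk' (R.subgroupOf Hc)
  have hπ : ∀ x : Hc, π x = 1 ↔ (x : G) ∈ R := fun x => QuotientGroup.eq_one_iff x
  haveI : (H.subgroupOf Hc).Normal := normal_subgroupOf_of_le_normalizer hn.2
  haveI : ((H.subgroupOf Hc).map π).Normal :=
    Normal.map inferInstance π (QuotientGroup.mk'_surjective _)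
  have hgenHc : ∀ e : Hc, (e : G) ∈ E → ∀ y : Hc, π e * π y = π y * π e := by
    intro e he y
    have hS : Hc ≤ ((centralizer ({π e} : Set _)).comap π).map Hc.subtype := by
      conv_lhs => rw [hHc]
      refine iSup_le fun g => ?_
      obtain ⟨k, hk, ek⟩ := exists_conj_mem hQ hQHc hwc g (by
        rw [hHc]; exact le_iSup_of_le g le_rfl)
      rw [ek]
      rintro _ ⟨q, hq, rfl⟩
      have hqc : k * q * k⁻¹ ∈ Hc := mul_mem (mul_mem hk (hQHc hq)) (inv_mem hk)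
      refine ⟨⟨k * q * k⁻¹, hqc⟩, mem_centralizer_singleton_iff.mpr
        (commutatorElement_eq_one_iff_mul_comm.mp ?_).symm, rfl⟩
      rw [← map_commutatorElement, hπ]
      exact hEQ k hk _ he q hq
    obtain ⟨y', hy', e'⟩ := hS y.2
    obtain rfl : y' = y := Subtype.ext e'
    exact (mem_centralizer_singleton_iff.mp hy').symm
  have hkey : ∀ x ∈ H, ∀ g ∈ Hc, ∀ c ∈ H', ⁅⁅x, g⁆, c⁆ ∈ R := by
    intro x hx g hg c hc
    have hab : (H.subgroupOf Hc).map π ⊔ (H'.subgroupOf Hc).map π = ⊤ := by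
      rw [← Subgroup.map_sup, ← subgroupOf_sup hn.1 hn'.1, hprod, subgroupOf_self,
        map_top_of_surjective _ (QuotientGroup.mk'_surjective _)]
    have he : ∀ z ∈ ⁅(H.subgroupOf Hc).map π, (H'.subgroupOf Hc).map π⁆, ∀ y, z * y = y * z := by
      intro z hz y
      rw [← map_commutator] at hz
      obtain ⟨z', hz', rfl⟩ := hz
      obtain ⟨y', rfl⟩ := QuotientGroup.mk'_surjective _ y
      refine hgenHc z' ?_ y'
      have : (⁅H.subgroupOf Hc, H'.subgroupOf Hc⁆).map Hc.subtype ≤ E := by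
        rw [map_commutator, map_subgroupOf_eq_of_le hn.1, map_subgroupOf_eq_of_le hn'.1]
      exact this ⟨z', hz', rfl⟩
    have h := commutator_factor_central _ _ hab he (π ⟨x, hn.1 hx⟩) (mem_map_of_mem π hx) (π ⟨g, hg⟩)
      (π ⟨c, hn'.1 hc⟩) (mem_map_of_mem π hc)
    rw [← map_commutatorElement, ← commutatorElement_eq_one_iff_mul_comm, ← map_commutatorElement, hπ] at h
    exact h
  have hKR : ∀ k ∈ K, ∀ c ∈ H', ⁅k, c⁆ ∈ R := by
    intro k hk c hc
    have hS : K ≤ ((centralizer ({π ⟨c, hn'.1 hc⟩} : Set _)).comap π).map Hc.subtype := by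
      conv_lhs => rw [← hKeq]
      rw [commutator_le]
      intro x hx q hq
      have hxq : ⁅x, q⁆ ∈ Hc := hn.1 (hKH (hDK (commutator_mem_commutator hx hq)))
      refine ⟨⟨⁅x, q⁆, hxq⟩, mem_centralizer_singleton_iff.mpr (commutatorElement_eq_one_iff_mul_comm.mp ?_), rfl⟩
      rw [← map_commutatorElement, hπ]
      exact hkey x (hKH hx) q (hQHc hq) c hc
    obtain ⟨k', hk', e⟩ := hS hk
    have h := mem_centralizer_singleton_iff.mp hk'
    rw [← commutatorElement_eq_one_iff_mul_comm, ← map_commutatorElement, hπ] at h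
    rw [← e]
    exact h
  have hKHc : K ≤ Hc := hKH.trans hn.1
  have hKro : K ≤ RO p Hc := hK ▸ ro_mono (hLM.trans hMc)
  have hroK : K ≤ RO p K := by
    conv_lhs => rw [hK]
    rw [hK]
    exact ro_ro L
  have hKR' : ∀ k ∈ K, ∀ c ∈ H', ⁅k, c⁆ ∈ R ⊓ H := fun k hk c hc => mem_inf.mpr ⟨hKR k hk c hc,
    le_normalizer_iff_commutator_le_left.mp (hn'.1.trans hn.2) (commutator_mem_commutator (hKH hk) hc)⟩
  have hRH : IsPGroup p (R ⊓ H : Subgroup G) := hRp.to_le inf_le_left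
  have hH'K : H' ≤ normalizer (K : Set G) := by
    intro h hh
    rw [mem_normalizer_iff_map]
    refine Subgroup.eq_of_le_of_card_ge ?_ (Cfsg.Lib.Transfer.card_map_conj K h).ge
    refine le_trans ?_ (ro_sup_le (N := K) hRH (inf_le_right.trans (hHM.trans hMnK)))
    rintro _ ⟨k, hk, rfl⟩
    refine (ro_le_of K ((RO p (K ⊔ (R ⊓ H))).comap (MulAut.conj h).toMonoidHom) fun x hx hc => ?_) (hroK hk)
    show h * x * h⁻¹ ∈ RO p (K ⊔ (R ⊓ H))
    refine mem_ro ?_ ?_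
    · rw [show h * x * h⁻¹ = ⁅x, h⁆⁻¹ * x by group]
      exact mul_mem (mem_sup_right (inv_mem (hKR' x hx h hh))) (mem_sup_left hx)
    · rwa [show h * x * h⁻¹ = MulAut.conj h x from rfl, MulEquiv.orderOf_eq]
  have hHcK : Hc ≤ normalizer (K : Set G) := hprod ▸ sup_le (hHM.trans hMnK) hH'K
  have hD : ⁅K, H⁆ ≤ K := le_normalizer_iff_commutator_le_left.mp (hHM.trans hMnK)
  have hKD : ⁅K, H⁆ = K := by
    refine le_antisymm hD ?_
    have hHD : H ≤ normalizer ((⁅K, H⁆ : Subgroup G) : Set G) := fun a ha =>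
      normalizer_commutator (hMnK (hHM ha)) (le_normalizer ha)
    have hle : K ≤ ⁅K, H⁆ ⊔ (R ⊓ H) := by
      conv_lhs => rw [← hKeq]
      rw [commutator_le]
      intro k hk q hq
      have hq' : q ∈ H ⊔ H' := hprod ▸ hQHc hq
      rw [← SetLike.mem_coe, Subgroup.coe_mul_of_right_le_normalizer_left _ _ (hn'.1.trans hn.2)] at hq'
      obtain ⟨a, ha, b, hb, rfl⟩ := hq'
      rw [show ⁅k, a * b⁆ = ⁅k, a⁆ * (a * ⁅k, b⁆ * a⁻¹) by group]
      refine mul_mem (mem_sup_left (commutator_mem_commutator hk ha)) (mem_sup_right ?_)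
      exact (mem_normalizer_iff.mp (Cfsg.Lib.Coprime.le_normalizer_inf (hn.1.trans hRn) le_normalizer ha) _).mp
        (hKR' k hk b hb)
    exact hroK.trans ((ro_mono hle).trans (ro_sup_le hRH (inf_le_right.trans hHD)))
  refine ⟨⟨hKeq, hKD, ?_, hHcK⟩, ?_, fun h hh => hconjKQ h (hHM hh), hKro, hKH⟩
  · conv_lhs => rw [← hKD]
    exact commutator_mono hKH le_rfl
  · rw [commutator_le]
    exact fun k hk c hc => hKR k hk c hc

/-- two factors -/
theorem two_factors (hQ : IsPGroup p Q) (hwc : Cfsg.IsWeaklyClosedSubgroup p Q) (hHc : Hc = Cfsg.weakClosure Q ⊤)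
    (hn : H ≤ Hc ∧ Hc ≤ normalizer (H : Set G)) (hn' : H' ≤ Hc ∧ Hc ≤ normalizer (H' : Set G))
    (hprod : H ⊔ H' = Hc) (hcomm : ⁅H, H'⁆ ≤ normalizer (Q : Set G)) (K₁ K₂ : Subgroup G)
    (hK₁ : K₁ = RO p (Cfsg.weakClosure Q (H ⊔ Q))) (hK₂ : K₂ = RO p (Cfsg.weakClosure Q (H' ⊔ Q))) :
    (⁅K₁, Q⁆ = K₁ ∧ ⁅K₁, H⁆ = K₁ ∧ K₁ ≤ ⁅H, H⁆ ∧ Hc ≤ normalizer (K₁ : Set G)) ∧
      (⁅K₂, Q⁆ = K₂ ∧ ⁅K₂, H'⁆ = K₂ ∧ K₂ ≤ ⁅H', H'⁆ ∧ Hc ≤ normalizer (K₂ : Set G)) ∧
      K₁ ⊔ K₂ = RO p Hc ∧ ⁅K₁, K₂⁆ ≤ Cfsg.pCoreOf p Hc := by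
  have hw : WC p Q := (wc_iff Q hQ).mp hwc
  have hQHc : Q ≤ Hc := by
    rw [hHc]
    exact le_iSup_of_le ⟨1, le_top⟩ (by rw [map_conj_one])
  obtain ⟨h1, hc1, hf1, hr1, hle1⟩ := factor hQ hw hQHc hHc hn hn' hprod hcomm K₁ hK₁
  obtain ⟨h2, hc2, hf2, hr2, hle2⟩ := factor hQ hw hQHc hHc hn' hn (by rw [sup_comm]; exact hprod)
    (by rw [commutator_comm]; exact hcomm) K₂ hK₂
  refine ⟨h1, h2, le_antisymm (sup_le hr1 hr2) ?_, (commutator_mono le_rfl hle2).trans hc1⟩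
  set N := K₁ ⊔ K₂
  have hNn : Hc ≤ normalizer (N : Set G) := Cfsg.Lib.Coprime.le_normalizer_sup h1.2.2.2 h2.2.2.2
  have hstab : ∀ {X K : Subgroup G}, X ≤ Hc → K ≤ N → (∀ x ∈ X, Q.map (MulAut.conj x).toMonoidHom ≤ K ⊔ Q) →
      X ≤ normalizer ((N ⊔ Q : Subgroup G) : Set G) := by
    intro X K hX hK hf x hx
    rw [mem_normalizer_iff_map]
    refine Subgroup.eq_of_le_of_card_ge ?_ (Cfsg.Lib.Transfer.card_map_conj (N ⊔ Q) x).ge
    rw [Subgroup.map_sup, mem_normalizer_iff_map.1 (hNn (hX hx))]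
    exact sup_le le_sup_left ((hf x hx).trans (sup_le_sup_right hK _))
  have hnorm : Hc ≤ normalizer ((N ⊔ Q : Subgroup G) : Set G) :=
    hprod ▸ sup_le (hstab hn.1 le_sup_left hf1) (hstab hn'.1 le_sup_right hf2)
  have hle : Hc ≤ N ⊔ Q := by
    conv_lhs => rw [hHc]
    refine iSup_le fun g => ?_
    obtain ⟨k, hk, ek⟩ := exists_conj_mem hQ hQHc hw g (by
      rw [hHc]; exact le_iSup_of_le g le_rfl)
    rw [ek]
    rintro _ ⟨q, hq, rfl⟩
    exact (mem_normalizer_iff.mp (hnorm hk) q).mp (mem_sup_right hq)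
  exact (ro_mono hle).trans (ro_sup_le hQ (hQHc.trans hNn))

end Cfsg.Lib.WFactor
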