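import Mathlib
import Cfsg.Agent.Components.Quasisimple
import Cfsg.Agent.Transfer.Basic
import Cfsg.Prelude.Def_LocalStructure

/-! Weakly closed subgroups. -/

set_option linter.style.haveILetI false
set_option linter.unusedSectionVars false

namespace Cfsg.Lib.WClosed

open scoped commutatorElement

open scoped Pointwise

variable {G : Type*} [Group G] [Finite G] {p : ℕ} [Fact p.Prime]

/-- `Q` is the only conjugate of itself in any `p`-group containing it. -/
def WC (p : ℕ) (Q : Subgroup G) : Prop :=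
  ∀ R : Subgroup G, IsPGroup p R → ∀ g : G, Q ≤ R → Q.map (MulAut.conj g).toMonoidHom ≤ R →
    Q.map (MulAut.conj g).toMonoidHom = Q

theorem map_map_conj (Q : Subgroup G) (a b : G) :
    (Q.map (MulAut.conj b).toMonoidHom).map (MulAut.conj a).toMonoidHom =
      Q.map (MulAut.conj (a * b)).toMonoidHom := by
  rw [Subgroup.map_map]
  congr 1
  ext x; simp [mul_assoc]

theorem map_conj_one (Q : Subgroup G) : Q.map (MulAut.conj (1 : G)).toMonoidHom = Q := by
  ext x; simp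

theorem mem_normalizer_iff_map {Q : Subgroup G} {g : G} :
    g ∈ Subgroup.normalizer (Q : Set G) ↔ Q.map (MulAut.conj g).toMonoidHom = Q :=
  Cfsg.Lib.Transfer.map_conj_eq_self_iff.symm

theorem normalizer_conj (Q : Subgroup G) (g : G) :
    (Subgroup.normalizer (Q : Set G)).map (MulAut.conj g).toMonoidHom =
      Subgroup.normalizer ((Q.map (MulAut.conj g).toMonoidHom : Subgroup G) : Set G) :=
  Subgroup.map_equiv_normalizer_eq Q (MulAut.conj g)

theorem sylow_smul_coe (g : G) (T : Sylow p G) :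
    ((g • T : Sylow p G) : Subgroup G) = (T : Subgroup G).map (MulAut.conj g).toMonoidHom := rfl

theorem wc_iff (Q : Subgroup G) (hQ : IsPGroup p Q) :
    Cfsg.IsWeaklyClosedSubgroup p Q ↔ WC p Q := by
  constructor
  · rintro ⟨T, hQT, hwc⟩ R hR g hQR hgR
    obtain ⟨T', hT'⟩ := hR.exists_le_sylow
    obtain ⟨h, hh⟩ := MulAction.exists_smul_eq G T' T
    have h1 : Q.map (MulAut.conj h).toMonoidHom = Q := by
      refine hwc h ?_
      rw [← hh, sylow_smul_coe]
      exact Subgroup.map_mono (hQR.trans hT')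
    have h2 : Q.map (MulAut.conj (h * g)).toMonoidHom = Q := by
      refine hwc (h * g) ?_
      rw [← hh, sylow_smul_coe, ← map_map_conj]
      exact Subgroup.map_mono (hgR.trans hT')
    rw [← map_map_conj] at h2
    exact Subgroup.map_injective (MulAut.conj h).injective (h2.trans h1.symm)
  · intro h
    obtain ⟨T, hT⟩ := hQ.exists_le_sylow
    exact ⟨T, hT, fun g hg => h T T.isPGroup' g hT hg⟩

theorem normalizer_le {Q : Subgroup G} (h : WC p Q) (R : Subgroup G) (hR : IsPGroup p R)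
    (hQR : Q ≤ R) : Subgroup.normalizer (R : Set G) ≤ Subgroup.normalizer (Q : Set G) := by
  intro g hg
  rw [mem_normalizer_iff_map]
  refine h R hR g hQR ?_
  rw [← mem_normalizer_iff_map.1 hg]
  exact Subgroup.map_mono hQR

theorem wc_of_normalizer {Q : Subgroup G}
    (h : ∀ R : Subgroup G, IsPGroup p R → Q ≤ R →
      Subgroup.normalizer (R : Set G) ≤ Subgroup.normalizer (Q : Set G)) : WC p Q := by
  intro R hR g hQR hgR
  obtain ⟨T, hT⟩ := hR.exists_le_sylow
  have hTQ : (T : Subgroup G) ≤ Subgroup.normalizer (Q : Set G) :=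
    Subgroup.le_normalizer.trans (h T T.isPGroup' (hQR.trans hT))
  have hQT' : Q ≤ ((g⁻¹ • T : Sylow p G) : Subgroup G) := by
    have := Subgroup.map_mono (f := (MulAut.conj g⁻¹).toMonoidHom) (hgR.trans hT)
    rwa [map_map_conj, inv_mul_cancel, map_conj_one] at this
  have hT'Q : ((g⁻¹ • T : Sylow p G) : Subgroup G) ≤ Subgroup.normalizer (Q : Set G) :=
    Subgroup.le_normalizer.trans (h _ (g⁻¹ • T).isPGroup' hQT')
  obtain ⟨n, hn⟩ := MulAction.exists_smul_eq (Subgroup.normalizer (Q : Set G))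
    (T.subtype hTQ) ((g⁻¹ • T).subtype hT'Q)
  have h5 : (n • T).subtype (Sylow.smul_le hTQ n) = (g⁻¹ • T).subtype hT'Q := by
    rw [← Sylow.smul_subtype]; exact hn
  have h6 : (n : G) • T = g⁻¹ • T := Sylow.subtype_injective h5
  have h7 : (g * n) • T = T := by rw [mul_smul, h6, smul_inv_smul]
  have h8 := h T T.isPGroup' (hQR.trans hT) (Sylow.smul_eq_iff_mem_normalizer.1 h7)
  rw [← mem_normalizer_iff_map]
  have := mul_mem h8 (inv_mem n.2)
  simpa using this

theorem commutator_le_inf_iff {A B : Subgroup G} :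
    ⁅A, B⁆ ≤ A ⊓ B ↔ B ≤ Subgroup.normalizer (A : Set G) ∧ A ≤ Subgroup.normalizer (B : Set G) := by
  constructor
  · intro h
    exact ⟨Subgroup.le_normalizer_iff_commutator_le_left.mpr (h.trans inf_le_left),
      Subgroup.le_normalizer_iff_commutator_le_left.mpr
        ((Subgroup.commutator_comm B A).le.trans (h.trans inf_le_right))⟩
  · rintro ⟨h1, h2⟩
    exact le_inf (Subgroup.le_normalizer_iff_commutator_le_left.mp h1)
      ((Subgroup.commutator_comm A B).le.trans (Subgroup.le_normalizer_iff_commutator_le_left.mp h2))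

theorem wc_mutual {Q : Subgroup G} (hQ : IsPGroup p Q) (h : WC p Q) (g : G)
    (hc : ⁅Q, Q.map (MulAut.conj g).toMonoidHom⁆ ≤ Q ⊓ Q.map (MulAut.conj g).toMonoidHom) :
    Q.map (MulAut.conj g).toMonoidHom = Q := by
  rw [commutator_le_inf_iff] at hc
  exact h _ (IsPGroup.to_sup_of_normal_left' hQ (hQ.map _) hc.1) g le_sup_left le_sup_right

theorem sylow_normalizes_of_mutual {Q : Subgroup G}
    (h : ∀ g : G, ⁅Q, Q.map (MulAut.conj g).toMonoidHom⁆ ≤ Q ⊓ Q.map (MulAut.conj g).toMonoidHom →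
      Q.map (MulAut.conj g).toMonoidHom = Q) (T : Sylow p G) (hT : Q ≤ (T : Subgroup G)) :
    (T : Subgroup G) ≤ Subgroup.normalizer (Q : Set G) := by
  by_contra hne
  set N : Subgroup G := (T : Subgroup G) ⊓ Subgroup.normalizer (Q : Set G) with hN
  haveI : Group.IsNilpotent (T : Subgroup G) := T.isPGroup'.isNilpotent
  have hlt : N.subgroupOf (T : Subgroup G) < ⊤ :=
    lt_top_iff_ne_top.2 fun h1 => hne ((Subgroup.subgroupOf_eq_top.1 h1).trans inf_le_right)
  obtain ⟨x, hxN, hxn⟩ := SetLike.exists_of_lt (Group.normalizerCondition_of_isNilpotent _ hlt)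
  have hxN' : (x : G) ∈ Subgroup.normalizer (N : Set G) := by
    refine Subgroup.mem_normalizer_iff.2 fun y => ⟨fun hy => ?_, fun hy => ?_⟩
    · exact (Subgroup.mem_normalizer_iff.1 hxN ⟨y, hy.1⟩).1 hy
    · have hyP : y ∈ (T : Subgroup G) := by
        have := mul_mem (mul_mem (inv_mem x.2) hy.1) x.2
        simpa [mul_assoc] using this
      exact (Subgroup.mem_normalizer_iff.1 hxN ⟨y, hyP⟩).2 hy
  have hQN : Q ≤ N := le_inf hT Subgroup.le_normalizer
  have hQxN : Q.map (MulAut.conj (x : G)).toMonoidHom ≤ N := by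
    rw [← mem_normalizer_iff_map.1 hxN']
    exact Subgroup.map_mono hQN
  have hmut : ⁅Q, Q.map (MulAut.conj (x : G)).toMonoidHom⁆ ≤
      Q ⊓ Q.map (MulAut.conj (x : G)).toMonoidHom := by
    rw [commutator_le_inf_iff]
    refine ⟨hQxN.trans inf_le_right, ?_⟩
    rw [← normalizer_conj]
    intro q hq
    refine ⟨(x : G)⁻¹ * q * x, ?_, by simp [mul_assoc]⟩
    exact ((Subgroup.mem_normalizer_iff''.1 hxN' q).1 (hQN hq)).2
  exact hxn ⟨x.2, mem_normalizer_iff_map.2 (h _ hmut)⟩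

theorem wc_of_mutual {Q : Subgroup G}
    (h : ∀ g : G, ⁅Q, Q.map (MulAut.conj g).toMonoidHom⁆ ≤ Q ⊓ Q.map (MulAut.conj g).toMonoidHom →
      Q.map (MulAut.conj g).toMonoidHom = Q) : WC p Q := by
  intro R hR g hQR hgR
  obtain ⟨T, hT⟩ := hR.exists_le_sylow
  refine h g ?_
  rw [commutator_le_inf_iff]
  refine ⟨hgR.trans (hT.trans (sylow_normalizes_of_mutual h T (hQR.trans hT))), ?_⟩
  have hQT' : Q ≤ ((g⁻¹ • T : Sylow p G) : Subgroup G) := by
    have := Subgroup.map_mono (f := (MulAut.conj g⁻¹).toMonoidHom) (hgR.trans hT)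
    rwa [map_map_conj, inv_mul_cancel, map_conj_one] at this
  have h1 := Subgroup.map_mono (f := (MulAut.conj g).toMonoidHom)
    (sylow_normalizes_of_mutual h _ hQT')
  rw [normalizer_conj, sylow_smul_coe, map_map_conj, mul_inv_cancel, map_conj_one] at h1
  exact (hQR.trans hT).trans h1

theorem wc_subgroup {Q K : Subgroup G} (hQK : Q ≤ K) (h : WC p Q) : WC p (Q.subgroupOf K) := by
  intro R hR k hQR hkR
  have h1 : Q.map (MulAut.conj (k : G)).toMonoidHom = Q := by
    refine h (R.map K.subtype) (hR.map _) k ?_ ?_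
    · intro q hq
      exact ⟨⟨q, hQK hq⟩, hQR (x := ⟨q, hQK hq⟩) hq, rfl⟩
    · rintro _ ⟨q, hq, rfl⟩
      exact ⟨k * ⟨q, hQK hq⟩ * k⁻¹, hkR ⟨⟨q, hQK hq⟩, hq, rfl⟩, rfl⟩
  apply Subgroup.map_injective (Subgroup.subtype_injective K)
  rw [Subgroup.map_subgroupOf_eq_of_le hQK, Subgroup.map_map]
  conv_rhs => rw [← h1]
  rw [show K.subtype.comp (MulAut.conj k).toMonoidHom =
    (MulAut.conj (k : G)).toMonoidHom.comp K.subtype from by ext x; simp, ← Subgroup.map_map,
    Subgroup.map_subgroupOf_eq_of_le hQK]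

theorem exists_conj_mem {Q K : Subgroup G} (hQ : IsPGroup p Q) (hQK : Q ≤ K) (h : WC p Q) (g : G)
    (hg : Q.map (MulAut.conj g).toMonoidHom ≤ K) :
    ∃ k ∈ K, Q.map (MulAut.conj g).toMonoidHom = Q.map (MulAut.conj k).toMonoidHom := by
  obtain ⟨S1, hS1⟩ := (hQ.comap_of_injective K.subtype (Subgroup.subtype_injective K) :
    IsPGroup p (Q.subgroupOf K)).exists_le_sylow
  obtain ⟨S2, hS2⟩ := ((hQ.map (MulAut.conj g).toMonoidHom).comap_of_injective K.subtype
    (Subgroup.subtype_injective K) :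
      IsPGroup p ((Q.map (MulAut.conj g).toMonoidHom).subgroupOf K)).exists_le_sylow
  obtain ⟨k, hk⟩ := MulAction.exists_smul_eq K S2 S1
  refine ⟨(k : G)⁻¹, inv_mem k.2, ?_⟩
  have h1 : Q.map (MulAut.conj ((k : G) * g)).toMonoidHom = Q := by
    refine h ((S1 : Subgroup K).map K.subtype) (S1.isPGroup'.map _) _ (fun q hq =>
      ⟨⟨q, hQK hq⟩, hS1 (x := ⟨q, hQK hq⟩) hq, rfl⟩) ?_
    rintro _ ⟨q, hq, rfl⟩
    have hmem : g * q * g⁻¹ ∈ K := hg ⟨q, hq, rfl⟩
    refine ⟨k * ⟨g * q * g⁻¹, hmem⟩ * k⁻¹, ?_, by simp [mul_assoc]⟩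
    rw [← hk]
    exact ⟨_, hS2 (x := ⟨g * q * g⁻¹, hmem⟩) ⟨q, hq, rfl⟩, rfl⟩
  conv_rhs => rw [← h1]
  rw [map_map_conj, inv_mul_cancel_left]

theorem normalizer_parabolic {Q K : Subgroup G} (hQ : IsPGroup p Q) (hQK : Q ≤ K) (h : WC p Q) :
    Cfsg.IsParabolic p ((Subgroup.normalizer (Q : Set G)).subgroupOf K) := by
  obtain ⟨S1, hS1⟩ := (hQ.comap_of_injective K.subtype (Subgroup.subtype_injective K) :
    IsPGroup p (Q.subgroupOf K)).exists_le_sylow
  refine ⟨S1, fun s hs => ?_⟩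
  exact (normalizer_le h _ (S1.isPGroup'.map K.subtype)
    (fun q hq => ⟨⟨q, hQK hq⟩, hS1 (x := ⟨q, hQK hq⟩) hq, rfl⟩))
    (Subgroup.le_normalizer ⟨s, hs, rfl⟩)

theorem sup_pResidual {Q : Subgroup G} (hQ : IsPGroup p Q) (h : WC p Q) (N : Subgroup G) [N.Normal] :
    (N ⊓ Subgroup.normalizer (Q : Set G)) ⊔ (Cfsg.pResidual p N).map N.subtype = N := by
  refine le_antisymm (sup_le inf_le_left (Subgroup.map_subtype_le _)) ?_
  obtain ⟨T, hT⟩ := hQ.exists_le_sylow
  have hTN : (T : Subgroup G) ≤ Subgroup.normalizer (Q : Set G) :=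
    Subgroup.le_normalizer.trans (normalizer_le h _ T.isPGroup' hT)
  obtain ⟨R, hR⟩ : ∃ R : Sylow p N, (R : Subgroup N).map N.subtype ≤ (T : Subgroup G) := by
    obtain ⟨R0⟩ : Nonempty (Sylow p N) := inferInstance
    obtain ⟨T', hT'⟩ := (R0.isPGroup'.map N.subtype).exists_le_sylow
    obtain ⟨g, hg⟩ := MulAction.exists_smul_eq G T' T
    refine ⟨(MulAut.conjNormal g : MulAut N) • R0, ?_⟩
    rintro _ ⟨_, ⟨r, hr, rfl⟩, rfl⟩
    rw [← hg]
    exact ⟨r, hT' ⟨r, hr, rfl⟩, rfl⟩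
  have h2 := congrArg (Subgroup.map N.subtype) (Cfsg.Lib.Transfer.pResidual_sup_sylow R)
  rw [Subgroup.map_sup, ← MonoidHom.range_eq_map, Subgroup.range_subtype] at h2
  conv_lhs => rw [← h2]
  exact sup_le le_sup_right
    ((le_inf (Subgroup.map_subtype_le _) (hR.trans hTN)).trans le_sup_left)

theorem wc_quotient {Q : Subgroup G} (hQ : IsPGroup p Q) (h : WC p Q) (N : Subgroup G) [N.Normal] :
    Cfsg.IsWeaklyClosedSubgroup p (Q.map (QuotientGroup.mk' N)) := by
  set q := QuotientGroup.mk' N with hq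
  obtain ⟨T, hT⟩ := hQ.exists_le_sylow
  refine ⟨T.mapSurjective (QuotientGroup.mk'_surjective N), Subgroup.map_mono hT, fun gq hg => ?_⟩
  obtain ⟨g, rfl⟩ := QuotientGroup.mk'_surjective N gq
  have hmap : (Q.map q).map (MulAut.conj (q g)).toMonoidHom =
      (Q.map (MulAut.conj g).toMonoidHom).map q := by
    rw [Subgroup.map_map, Subgroup.map_map]
    congr 1
  rw [hmap] at hg ⊢
  have hgK : Q.map (MulAut.conj g).toMonoidHom ≤ (T : Subgroup G) ⊔ N := by
    have h1 := Subgroup.map_le_iff_le_comap.1 hg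
    have h2 : ((T.mapSurjective (QuotientGroup.mk'_surjective N) : Sylow p _) :
        Subgroup (G ⧸ N)).comap q = (T : Subgroup G) ⊔ N := by
      show ((T : Subgroup G).map q).comap q = _
      rw [Subgroup.comap_map_eq, hq, QuotientGroup.ker_mk']
    rwa [h2] at h1
  obtain ⟨k, hk, hkQ⟩ := exists_conj_mem hQ (hT.trans le_sup_left) h g hgK
  rw [hkQ]
  obtain ⟨t, ht, n, hn, rfl⟩ := Subgroup.mem_sup_of_normal_right.1 hk
  have hqk : q (t * n) = q t := by
    rw [map_mul, show q n = 1 from (QuotientGroup.eq_one_iff n).2 hn, mul_one]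
  have htQ : Q.map (MulAut.conj t).toMonoidHom = Q :=
    mem_normalizer_iff_map.1 (normalizer_le h _ T.isPGroup' hT (Subgroup.le_normalizer ht))
  calc (Q.map (MulAut.conj (t * n)).toMonoidHom).map q
      = (Q.map q).map (MulAut.conj (q (t * n))).toMonoidHom := by
        rw [Subgroup.map_map, Subgroup.map_map]; congr 1
    _ = (Q.map q).map (MulAut.conj (q t)).toMonoidHom := by rw [hqk]
    _ = (Q.map (MulAut.conj t).toMonoidHom).map q := by
        rw [Subgroup.map_map, Subgroup.map_map]; congr 1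
    _ = Q.map q := by rw [htQ]

theorem weakClosure_eq {Q K : Subgroup G} (hQ : IsPGroup p Q) (hQK : Q ≤ K) (h : WC p Q) :
    Cfsg.weakClosure Q K = ⨆ k : K, Q.map (MulAut.conj (k : G)).toMonoidHom := by
  refine le_antisymm (iSup_le fun g => ?_) (iSup_le fun k => ?_)
  · obtain ⟨k, hk, hkQ⟩ := exists_conj_mem hQ hQK h g g.2
    rw [hkQ]
    exact le_iSup_of_le ⟨k, hk⟩ le_rfl
  · exact le_iSup_of_le ⟨(k : G), by
      rintro _ ⟨q, hq, rfl⟩
      exact mul_mem (mul_mem k.2 (hQK hq)) (inv_mem k.2)⟩ le_rfl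

theorem normalClosure_le_subnormal {Q : Subgroup G} (hQ : IsPGroup p Q) (h : WC p Q)
    {S : Subgroup G} (hS : S.IsSubnormal) (hQS : Q ≤ S) :
    Subgroup.normalClosure (Q : Set G) ≤ S := by
  set C : Subgroup G := Subgroup.normalClosure (Q : Set G) with hC
  have hQC : Q ≤ C := Subgroup.le_normalClosure
  by_contra hne
  have hne' : S.subgroupOf C ≠ ⊤ := fun h1 => hne (Subgroup.subgroupOf_eq_top.1 h1)
  obtain ⟨N, hNn, hle, hNne⟩ := Cfsg.Lib.Components.exists_proper_normal hS.subgroupOf hne'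
  haveI := hNn
  apply hNne
  rw [eq_top_iff]
  intro c _
  have hall : C ≤ N.map C.subtype := by
    refine (Subgroup.closure_le _).2 ?_
    intro y hy
    obtain ⟨q, hq, hqy⟩ := Group.mem_conjugatesOfSet_iff.1 hy
    obtain ⟨g, rfl⟩ := isConj_iff.1 hqy
    have hgC : Q.map (MulAut.conj g).toMonoidHom ≤ C := by
      rintro _ ⟨x, hx, rfl⟩
      exact (inferInstance : C.Normal).conj_mem x (hQC hx) g
    obtain ⟨k, hk, hkQ⟩ := exists_conj_mem hQ hQC h g hgC
    have : g * q * g⁻¹ ∈ Q.map (MulAut.conj k).toMonoidHom := hkQ ▸ ⟨q, hq, rfl⟩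
    obtain ⟨x, hx, hxe⟩ := this
    rw [← hxe]
    exact ⟨⟨k, hk⟩ * ⟨x, hQC hx⟩ * ⟨k, hk⟩⁻¹,
      hNn.conj_mem _ (hle (x := ⟨x, hQC hx⟩) (hQS hx)) _, rfl⟩
  obtain ⟨n, hn, hnc⟩ := hall c.2
  rwa [show c = n from Subtype.ext hnc.symm]

theorem weakClosure_subnormalClosure {Q K : Subgroup G} (hQ : IsPGroup p Q) (hQK : Q ≤ K)
    (h : WC p Q) :
    Cfsg.weakClosure Q K = (Cfsg.subnormalClosure (Q.subgroupOf K)).map K.subtype := by
  have hQ' : IsPGroup p (Q.subgroupOf K) :=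
    hQ.comap_of_injective K.subtype (Subgroup.subtype_injective K)
  have heq : Cfsg.subnormalClosure (Q.subgroupOf K) =
      Subgroup.normalClosure ((Q.subgroupOf K : Subgroup K) : Set K) := by
    refine le_antisymm (sInf_le ⟨Subgroup.le_normalClosure,
      Subgroup.Normal.isSubnormal inferInstance⟩) (le_sInf fun S hS => ?_)
    exact normalClosure_le_subnormal hQ' (wc_subgroup hQK h) hS.2 hS.1
  rw [heq, weakClosure_eq hQ hQK h]
  refine le_antisymm (iSup_le fun k => ?_) ?_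
  · rintro _ ⟨q, hq, rfl⟩
    exact ⟨k * ⟨q, hQK hq⟩ * k⁻¹, (inferInstance : (Subgroup.normalClosure
      ((Q.subgroupOf K : Subgroup K) : Set K)).Normal).conj_mem _
      (Subgroup.subset_normalClosure (show (⟨q, hQK hq⟩ : K) ∈ Q.subgroupOf K from hq)) k, rfl⟩
  · rw [Subgroup.normalClosure, MonoidHom.map_closure, Subgroup.closure_le]
    rintro _ ⟨y, hy, rfl⟩
    obtain ⟨q, hq, hqy⟩ := Group.mem_conjugatesOfSet_iff.1 hy
    obtain ⟨k, rfl⟩ := isConj_iff.1 hqy
    exact le_iSup (fun k : K => Q.map (MulAut.conj (k : G)).toMonoidHom) k ⟨q, hq, rfl⟩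

/-- Frattini-type factorisation of a subgroup normalised by `Q`. -/
theorem factor_normalized {Q C : Subgroup G} (hQ : IsPGroup p Q) (h : WC p Q)
    (hQC : Q ≤ Subgroup.normalizer (C : Set G)) {n : G} (hn : n ∈ C) :
    ∃ a ∈ C ⊓ Subgroup.normalizer (Q : Set G), ∃ b ∈ ⁅C, Q⁆, n = a * b := by
  set M : Subgroup G := ⁅C, Q⁆ ⊔ Q with hM
  have hCle : ⁅C, Q⁆ ≤ C := Subgroup.le_normalizer_iff_commutator_le_left.mp hQC
  have hQn : Q ≤ Subgroup.normalizer ((⁅C, Q⁆ : Subgroup G) : Set G) := by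
    intro q hq
    rw [mem_normalizer_iff_map, Subgroup.map_commutator,
      mem_normalizer_iff_map.1 (hQC hq), mem_normalizer_iff_map.1 (Subgroup.le_normalizer hq)]
  have hnM : Q.map (MulAut.conj n⁻¹).toMonoidHom ≤ M := by
    rintro _ ⟨q, hq, rfl⟩
    have h1 : (⁅n⁻¹, q⁆ : G) ∈ M :=
      Subgroup.mem_sup_left (Subgroup.commutator_mem_commutator (inv_mem hn) hq)
    have h2 := mul_mem h1 (Subgroup.mem_sup_right (S := ⁅C, Q⁆) hq)
    simpa [commutatorElement_def, mul_assoc] using h2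
  obtain ⟨m, hm, hmQ⟩ := exists_conj_mem hQ le_sup_right h n⁻¹ hnM
  obtain ⟨c, hc, q, hq, rfl⟩ : ∃ c ∈ ⁅C, Q⁆, ∃ q ∈ Q, c * q = m := by
    have : ((⁅C, Q⁆ ⊔ Q : Subgroup G) : Set G) = ((⁅C, Q⁆ : Subgroup G) : Set G) * (Q : Set G) :=
      Subgroup.coe_mul_of_right_le_normalizer_left ⁅C, Q⁆ Q hQn
    have hm' : m ∈ ((⁅C, Q⁆ : Subgroup G) : Set G) * (Q : Set G) := this ▸ hm
    exact Set.mem_mul.1 hm'
  have hqQ := mem_normalizer_iff_map.1 (Subgroup.le_normalizer hq : q ∈ Subgroup.normalizer (Q : Set G))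
  rw [← map_map_conj, hqQ] at hmQ
  refine ⟨n * c, ⟨mul_mem hn (hCle hc), ?_⟩, c⁻¹, inv_mem hc, by simp⟩
  refine mem_normalizer_iff_map.2 ?_
  rw [← map_map_conj, ← hmQ, map_map_conj, mul_inv_cancel, map_conj_one]

theorem commutator_factor {Q : Subgroup G} (hQ : IsPGroup p Q) (h : WC p Q) (N : Subgroup G)
    [N.Normal] {c : G} (hc : c ∈ ⁅N, Q⁆) :
    ∃ a ∈ Q ⊓ ⁅N, Q⁆, ∃ b ∈ ⁅⁅N, Q⁆, Q⁆, c = a * b := by
  set C : Subgroup G := ⁅N, Q⁆ with hC
  set D : Subgroup G := ⁅C, Q⁆ with hD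
  have hQN : Q ≤ Subgroup.normalizer (N : Set G) := by
    rw [Subgroup.normalizer_eq_top]; exact le_top
  have hQC : Q ≤ Subgroup.normalizer (C : Set G) := by
    intro q hq
    rw [mem_normalizer_iff_map, hC, Subgroup.map_commutator,
      mem_normalizer_iff_map.1 (hQN hq), mem_normalizer_iff_map.1 (Subgroup.le_normalizer hq)]
  have hQD : Q ≤ Subgroup.normalizer (D : Set G) := by
    intro q hq
    rw [mem_normalizer_iff_map, hD, Subgroup.map_commutator,
      mem_normalizer_iff_map.1 (hQC hq), mem_normalizer_iff_map.1 (Subgroup.le_normalizer hq)]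
  set E : Subgroup G := (Q ⊓ C) ⊔ D with hE
  have hDn : (Q ⊓ C) ≤ Subgroup.normalizer (D : Set G) := inf_le_left.trans hQD
  have hCE : C ≤ E := by
    rw [hC, Subgroup.commutator_le]
    intro n hn q hq
    obtain ⟨a, ha, b, hb, rfl⟩ := factor_normalized hQ h hQN hn
    have hanQ : a ∈ Subgroup.normalizer (Q : Set G) := ha.2
    have haC : a ∈ Subgroup.normalizer (C : Set G) := by
      rw [mem_normalizer_iff_map, hC, Subgroup.map_commutator,
        mem_normalizer_iff_map.1 (Subgroup.le_normalizer ha.1), mem_normalizer_iff_map.1 hanQ]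
    have haD : a ∈ Subgroup.normalizer (D : Set G) := by
      rw [mem_normalizer_iff_map, hD, Subgroup.map_commutator,
        mem_normalizer_iff_map.1 haC, mem_normalizer_iff_map.1 hanQ]
    have e : (⁅a * b, q⁆ : G) = (a * ⁅b, q⁆ * a⁻¹) * ⁅a, q⁆ := by
      simp [commutatorElement_def, mul_assoc]
    rw [e]
    refine mul_mem (Subgroup.mem_sup_right
      ((Subgroup.mem_normalizer_iff.1 haD _).1 (Subgroup.commutator_mem_commutator hb hq))) ?_
    refine Subgroup.mem_sup_left (Subgroup.mem_inf.2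
      ⟨?_, Subgroup.commutator_mem_commutator ha.1 hq⟩)
    rw [commutatorElement_def]
    exact mul_mem ((Subgroup.mem_normalizer_iff.1 hanQ q).1 hq) (inv_mem hq)
  have hmem : c ∈ ((Q ⊓ C : Subgroup G) : Set G) * (D : Set G) := by
    rw [← Subgroup.coe_mul_of_left_le_normalizer_right (Q ⊓ C) D hDn]
    exact hCE hc
  obtain ⟨a, ha, b, hb, hab⟩ := Set.mem_mul.1 hmem
  exact ⟨a, ha, b, hb, hab.symm⟩

end Cfsg.Lib.WClosed
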